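import Cfsg.Agent.Lib.OrthCohom.Rotations

/-! Cocycles vanishing on the rotations of an orthogonal frame of anisotropic planes. -/

set_option autoImplicit false

namespace CfsgLib.OrthCohom

open QuadraticMap (polar)
open CfsgLib.Classical.Quad

variable {V : Type*} [AddCommGroup V] [Module (ZMod 2) V] {Q : QuadraticForm (ZMod 2) V}
variable {f : commutator (Orth Q) → V}

theorem smul_one_inj {x y : V} (h : (1 : ZMod 2) • x = (1 : ZMod 2) • y) : x = y := by
  rwa [one_smul, one_smul] at h

theorem mul3_apply (g h k : commutator (Orth Q)) (x : V) :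
    (g * h * k).1.1 x = g.1.1 (h.1.1 (k.1.1 x)) := rfl

theorem good_span (hf : IsCocycle f) {a b p q : V} (h : Good f a b) {s t s' t' : ZMod 2}
    (hp : p = s • a + t • b) (hq : q = s' • a + t' • b) (hb : polar Q p q = 1) : Good f p q := by
  subst hp hq
  have h1 := h.symm hf
  have h2 := h.next hf
  have h3 := h2.next hf
  rw [show b + (a + b) = a by rw [add_comm a b, ← add_assoc, vadd_self, zero_add]] at h3
  have h4 := h2.symm hf
  have h5 := h3.symm hf
  rcases tw s with rfl | rfl <;> rcases tw t with rfl | rfl <;> rcases tw s' with rfl | rfl <;>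
    rcases tw t' with rfl | rfl <;>
    simp [bself, two0, QuadraticMap.polar_add_left, QuadraticMap.polar_add_right, h.pln.b, h.pln.b',
      CharTwo.add_self_eq_zero] at hb ⊢ <;>
    assumption

/-- Three orthogonal planes on whose rotations the cocycle vanishes. -/
structure Triple (f : commutator (Orth Q) → V) (a b a' b' a'' b'' : V) : Prop where
  g₁ : Good f a b
  g₂ : Good f a' b'
  g₃ : Good f a'' b''
  aa' : polar Q a a' = 0
  ab' : polar Q a b' = 0
  ba' : polar Q b a' = 0
  bb' : polar Q b b' = 0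
  aa'' : polar Q a a'' = 0
  ab'' : polar Q a b'' = 0
  ba'' : polar Q b a'' = 0
  bb'' : polar Q b b'' = 0
  a'a'' : polar Q a' a'' = 0
  a'b'' : polar Q a' b'' = 0
  b'a'' : polar Q b' a'' = 0
  b'b'' : polar Q b' b'' = 0

variable {a b a' b' a'' b'' : V}

/-- The rotation of three planes at once kills the planes it turns. -/
theorem Triple.good_diag (hf : IsCocycle f) (T : Triple f a b a' b' a'' b'') :
    Good f (a + a' + a'') (b + b' + b'') := by
  obtain ⟨g₁, g₂, g₃, o1, o2, o3, o4, o5, o6, o7, o8, o9, o10, o11, o12⟩ := T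
  have hp : Pln Q (a + a' + a'') (b + b' + b'') := by
    refine ⟨?_, ?_, ?_⟩
    · rw [Q_add, Q_add, QuadraticMap.polar_add_left, g₁.pln.qu, g₂.pln.qu, g₃.pln.qu, o1, o5, o9]; rfl
    · rw [Q_add, Q_add, QuadraticMap.polar_add_left, g₁.pln.qv, g₂.pln.qv, g₃.pln.qv, o4, o8, o12]; rfl
    · simp [QuadraticMap.polar_add_left, QuadraticMap.polar_add_right, g₁.pln.b, g₂.pln.b, g₃.pln.b,
        o2, o6, o10, (bcomm a' b).trans o3, (bcomm a'' b).trans o7, (bcomm a'' b').trans o11,
        CharTwo.add_self_eq_zero]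
  refine good_of_turn hf hp (mul_mem (mul_mem (g₁.mem hf) (g₂.mem hf)) (g₃.mem hf)) ?_ ?_ <;>
    rw [mul3_apply, rotG_coe, rotG_coe, rotG_coe] <;>
    simp only [map_add, rot_u g₁.pln, rot_u g₂.pln, rot_u g₃.pln, rot_v g₁.pln, rot_v g₂.pln, rot_v g₃.pln,
      rot_fix g₃.pln o5 o6, rot_fix g₃.pln o7 o8, rot_fix g₃.pln o9 o10, rot_fix g₃.pln o11 o12,
      rot_fix g₂.pln o1 o2, rot_fix g₂.pln o3 o4,
      rot_fix g₂.pln ((bcomm a'' a').trans o9) ((bcomm a'' b').trans o11),
      rot_fix g₂.pln ((bcomm b'' a').trans o10) ((bcomm b'' b').trans o12),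
      rot_fix g₁.pln ((bcomm a' a).trans o1) ((bcomm a' b).trans o3),
      rot_fix g₁.pln ((bcomm b' a).trans o2) ((bcomm b' b).trans o4),
      rot_fix g₁.pln ((bcomm a'' a).trans o5) ((bcomm a'' b).trans o7),
      rot_fix g₁.pln ((bcomm b'' a).trans o6) ((bcomm b'' b).trans o8)] <;>
    abel

/-- A plane through a vector of one of the planes is killed. -/
theorem Triple.good_cross (hf : IsCocycle f) (T : Triple f a b a' b' a'' b'') :
    Good f a (b + a' + a'') := by
  have T' := T
  obtain ⟨g₁, g₂, g₃, o1, o2, o3, o4, o5, o6, o7, o8, o9, o10, o11, o12⟩ := T'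
  have r1 := (bcomm a' a).trans o1
  have r2 := (bcomm b' a).trans o2
  have r3 := (bcomm a' b).trans o3
  have r4 := (bcomm b' b).trans o4
  have r5 := (bcomm a'' a).trans o5
  have r6 := (bcomm b'' a).trans o6
  have r7 := (bcomm a'' b).trans o7
  have r8 := (bcomm b'' b).trans o8
  have r9 := (bcomm a'' a').trans o9
  have r10 := (bcomm b'' a').trans o10
  have r11 := (bcomm a'' b').trans o11
  have r12 := (bcomm b'' b').trans o12
  have T2 : Triple f a b b' (a' + b') (a'' + b'') a'' := by
    refine ⟨g₁, g₂.next hf, ((g₃.next hf).next hf).symm hf |> fun h => ?_, ?_, ?_, ?_, ?_, ?_, ?_, ?_, ?_, ?_, ?_, ?_, ?_⟩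
    · exact good_span hf g₃ (s := 1) (t := 1) (s' := 1) (t' := 0) (by simp) (by simp)
        (by simp [QuadraticMap.polar_add_left, bself, two0, g₃.pln.b'])
    all_goals simp [QuadraticMap.polar_add_left, QuadraticMap.polar_add_right, o1, o2, o3, o4, o5, o6, o7, o8,
      o9, o10, o11, o12, r1, r2, r3, r4, r5, r6, r7, r8, r9, r10, r11, r12]
  have T3 : Triple f a b (a' + b') a' b'' (a'' + b'') := by
    refine ⟨g₁, ?_, g₃.next hf, ?_, ?_, ?_, ?_, ?_, ?_, ?_, ?_, ?_, ?_, ?_, ?_⟩
    · exact good_span hf g₂ (s := 1) (t := 1) (s' := 1) (t' := 0) (by simp) (by simp)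
        (by simp [QuadraticMap.polar_add_left, bself, two0, g₂.pln.b'])
    all_goals simp [QuadraticMap.polar_add_left, QuadraticMap.polar_add_right, o1, o2, o3, o4, o5, o6, o7, o8,
      o9, o10, o11, o12, r1, r2, r3, r4, r5, r6, r7, r8, r9, r10, r11, r12]
  have G1 := T.good_diag hf
  have G2 := (T2.good_diag hf).symm hf
  have G3 := (T3.good_diag hf).symm hf
  have hp : Pln Q a (b + a' + a'') := by
    refine ⟨g₁.pln.qu, ?_, ?_⟩
    · rw [Q_add, Q_add, QuadraticMap.polar_add_left, g₁.pln.qv, g₂.pln.qu, g₃.pln.qu, o3, o7, o9]; rfl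
    · simp [QuadraticMap.polar_add_right, g₁.pln.b, o1, o5]
  refine good_of_turn hf hp (mul_mem (mul_mem (G1.mem hf) (G2.mem hf)) (G3.mem hf)) ?_ ?_ <;>
    rw [mul3_apply, rotG_coe, rotG_coe, rotG_coe] <;>
    simp only [rot_apply G1.pln, rot_apply G2.pln, rot_apply G3.pln, QuadraticMap.polar_add_left,
      QuadraticMap.polar_add_right, QuadraticMap.polar_smul_left, smul_eq_mul, bself, two0, g₁.pln.b, g₂.pln.b,
      g₃.pln.b, g₁.pln.b', g₂.pln.b', g₃.pln.b', o1, o2, o3, o4, o5, o6, o7, o8,
      o9, o10, o11, o12, r1, r2, r3, r4, r5, r6, r7, r8, r9, r10, r11, r12] <;>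
    apply smul_one_inj <;> match_scalars <;> decide

theorem Q_sum_orth {ι : Type*} (c : ι → V) (h : ∀ i j, i ≠ j → polar Q (c i) (c j) = 0) (S : Finset ι) :
    Q (∑ i ∈ S, c i) = ∑ i ∈ S, Q (c i) := by
  classical
  induction S using Finset.induction with
  | empty => simp
  | insert i S hi ih =>
    rw [Finset.sum_insert hi, Finset.sum_insert hi, Q_add, ih]
    have : polar Q (c i) (∑ j ∈ S, c j) = 0 := by
      rw [← QuadraticMap.polarBilin_apply_apply, map_sum]
      exact Finset.sum_eq_zero fun j hj => h i j fun e => hi (e ▸ hj)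
    rw [this, add_zero]

/-- An orthogonal frame of at most four anisotropic planes. -/
structure Frame4 (Q : QuadraticForm (ZMod 2) V) (k : ℕ) where
  a : Fin k → V
  b : Fin k → V
  pln : ∀ i, Pln Q (a i) (b i)
  aa : ∀ i j, i ≠ j → polar Q (a i) (a j) = 0
  ab : ∀ i j, i ≠ j → polar Q (a i) (b j) = 0
  bb : ∀ i j, i ≠ j → polar Q (b i) (b j) = 0
  span : ∀ x, (∀ i, polar Q x (a i) = 0 ∧ polar Q x (b i) = 0) → x = 0

variable {k : ℕ}

/-- The component of a vector in one plane. -/
def Frame4.comp (F : Frame4 Q k) (x : V) (i : Fin k) : V :=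
  polar Q x (F.b i) • F.a i + polar Q x (F.a i) • F.b i

theorem Frame4.comp_orth (F : Frame4 Q k) (x y : V) {i j : Fin k} (h : i ≠ j) :
    polar Q (F.comp x i) (F.comp y j) = 0 := by
  have h1 := (bcomm (F.b i) (F.a j)).trans (F.ab j i h.symm)
  simp [Frame4.comp, QuadraticMap.polar_add_left, QuadraticMap.polar_add_right,
    QuadraticMap.polar_smul_left, QuadraticMap.polar_smul_right, F.aa i j h, F.ab i j h, F.bb i j h, h1]

theorem Frame4.eq_sum (F : Frame4 Q k) (x : V) : x = ∑ i, F.comp x i := by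
  have key : ∀ (i j : Fin k), i ≠ j → polar Q (F.comp x j) (F.a i) = 0 ∧ polar Q (F.comp x j) (F.b i) = 0 := by
    intro i j h
    have h1 := (bcomm (F.b j) (F.a i)).trans (F.ab i j h)
    simp [Frame4.comp, QuadraticMap.polar_add_left, QuadraticMap.polar_smul_left, F.aa j i h.symm,
      F.ab j i h.symm, F.bb j i h.symm, h1]
  rw [← sub_eq_zero]
  refine F.span _ fun i => ⟨?_, ?_⟩
  · rw [QuadraticMap.polar_sub_left, ← QuadraticMap.polarBilin_apply_apply Q (∑ i, F.comp x i), map_sum,
      LinearMap.sum_apply, Finset.sum_eq_single i (fun j _ hj => by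
        rw [QuadraticMap.polarBilin_apply_apply]; exact (key i j hj.symm).1) (by simp),
      QuadraticMap.polarBilin_apply_apply]
    simp [Frame4.comp, QuadraticMap.polar_add_left, QuadraticMap.polar_smul_left, bself, two0, (F.pln i).b']
  · rw [QuadraticMap.polar_sub_left, ← QuadraticMap.polarBilin_apply_apply Q (∑ i, F.comp x i), map_sum,
      LinearMap.sum_apply, Finset.sum_eq_single i (fun j _ hj => by
        rw [QuadraticMap.polarBilin_apply_apply]; exact (key i j hj.symm).2) (by simp),
      QuadraticMap.polarBilin_apply_apply]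
    simp [Frame4.comp, QuadraticMap.polar_add_left, QuadraticMap.polar_smul_left, bself, two0, (F.pln i).b]

theorem Frame4.Q_comp (F : Frame4 Q k) (x : V) (i : Fin k) (h : F.comp x i ≠ 0) :
    Q (F.comp x i) = 1 := by
  have hq := (F.pln i).next.qv
  rw [Frame4.comp] at h ⊢
  rcases tw (polar Q x (F.b i)) with e | e <;> rcases tw (polar Q x (F.a i)) with e' | e' <;>
    rw [e, e'] at h ⊢ <;> simp [(F.pln i).qu, (F.pln i).qv, hq] at h ⊢

/-- A vector of norm one lives in one or in three of the planes. -/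
theorem Frame4.weight (F : Frame4 Q k) (hk : k ≤ 4) (x : V) (hx : Q x = 1) :
    (∃ i, F.comp x i ≠ 0 ∧ x = F.comp x i) ∨
      ∃ i j l, i ≠ j ∧ i ≠ l ∧ j ≠ l ∧ F.comp x i ≠ 0 ∧ F.comp x j ≠ 0 ∧ F.comp x l ≠ 0 ∧
        x = F.comp x i + F.comp x j + F.comp x l := by
  classical
  set S := Finset.univ.filter fun i => F.comp x i ≠ 0
  have hsum : x = ∑ i ∈ S, F.comp x i := by
    rw [Finset.sum_filter_ne_zero]; exact F.eq_sum x
  have hS : (S.card : ZMod 2) = 1 := by
    have hQ : Q (∑ i ∈ S, F.comp x i) = 1 := hsum ▸ hx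
    rw [Q_sum_orth _ (fun i j h => F.comp_orth x x h) S,
      Finset.sum_congr rfl fun i hi => F.Q_comp x i (Finset.mem_filter.1 hi).2] at hQ
    simpa using hQ
  have hle : S.card ≤ 4 := (Finset.card_le_univ S).trans (by simpa using hk)
  have h13 : S.card = 1 ∨ S.card = 3 := by
    interval_cases h : S.card <;> first | (left; rfl) | (right; rfl) | (exfalso; revert hS; decide)
  rcases h13 with h | h
  · obtain ⟨i, hi⟩ := Finset.card_eq_one.1 h
    exact Or.inl ⟨i, (Finset.mem_filter.1 (hi ▸ Finset.mem_singleton_self i : i ∈ S)).2, by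
      rw [hi, Finset.sum_singleton] at hsum; exact hsum⟩
  · obtain ⟨i, j, l, hij, hil, hjl, hS3⟩ := Finset.card_eq_three.1 h
    have hm : ∀ t, t = i ∨ t = j ∨ t = l → F.comp x t ≠ 0 := fun t ht =>
      (Finset.mem_filter.1 (show t ∈ S by rw [hS3]; simpa using ht)).2
    refine Or.inr ⟨i, j, l, hij, hil, hjl, hm i (by simp), hm j (by simp), hm l (by simp), ?_⟩
    rw [hS3, Finset.sum_insert (by simp [hij, hil]), Finset.sum_insert (by simp [hjl]), Finset.sum_singleton,
      ← add_assoc] at hsum
    exact hsum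

theorem Frame4.exists_pair (F : Frame4 Q k) (hf : IsCocycle f) (hg : ∀ i, Good f (F.a i) (F.b i)) (x : V)
    (i : Fin k) (h : F.comp x i ≠ 0) : ∃ y, Good f (F.comp x i) (F.comp y i) := by
  have key : ∀ s t : ZMod 2, (s • F.a i + t • F.b i) ≠ 0 → ∃ y, Good f (s • F.a i + t • F.b i) (F.comp y i) := by
    intro s t hst
    have hb : ∀ s' t', polar Q (s • F.a i + t • F.b i) (s' • F.a i + t' • F.b i) = s * t' + t * s' := fun s' t' => by
      simp [QuadraticMap.polar_add_left, QuadraticMap.polar_add_right, QuadraticMap.polar_smul_left,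
        QuadraticMap.polar_smul_right, bself, two0, (F.pln i).b, (F.pln i).b']
      ring
    have ha : F.comp (F.a i) i = F.a i := by simp [Frame4.comp, bself, two0, (F.pln i).b]
    have hb' : F.comp (F.b i) i = F.b i := by simp [Frame4.comp, bself, two0, (F.pln i).b']
    rcases tw t with rfl | rfl
    · refine ⟨F.b i, good_span hf (hg i) (s := s) (t := 0) (s' := 0) (t' := 1) rfl (by rw [hb']; simp) ?_⟩
      rcases tw s with rfl | rfl
      · simp at hst
      · simp [hb', (F.pln i).b]
    · refine ⟨F.a i, good_span hf (hg i) (s := s) (t := 1) (s' := 1) (t' := 0) rfl (by rw [ha]; simp) ?_⟩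
      simp [ha, QuadraticMap.polar_add_left, QuadraticMap.polar_smul_left, bself, two0, (F.pln i).b']
  exact key _ _ h

theorem Frame4.all_good (F : Frame4 Q k) (hk : k ≤ 4) (hf : IsCocycle f)
    (hg : ∀ i, Good f (F.a i) (F.b i)) : ∀ u v, Pln Q u v → Good f u v := by
  classical
  have corth : ∀ (x y : V) (i j : Fin k), i ≠ j → polar Q (F.comp x i) (F.comp y j) = 0 :=
    fun x y i j h => F.comp_orth x y h
  have light : ∀ u v i, u = F.comp u i → F.comp u i ≠ 0 → Pln Q u v → Good f u v := by
    intro u v i hu hne huv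
    have hb : polar Q u (F.comp v i) = 1 := by
      have h1 := huv.b
      rw [F.eq_sum v, ← QuadraticMap.polarBilin_apply_apply, map_sum,
        Finset.sum_eq_single i (fun j _ hj => by
          rw [hu, QuadraticMap.polarBilin_apply_apply]; exact corth _ _ _ _ hj.symm) (by simp),
        QuadraticMap.polarBilin_apply_apply] at h1
      exact h1
    have hi : Good f u (F.comp v i) := good_span hf (hg i) hu rfl hb
    rcases F.weight hk v huv.qv with ⟨j, -, hj⟩ | ⟨p, q, r, hpq, hpr, hqr, hp, hq, hr, hs⟩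
    · have : j = i := by
        by_contra hne'
        have hb' := huv.b
        rw [hj, hu, corth _ _ _ _ (Ne.symm hne')] at hb'
        exact zero_ne_one hb'
      subst this
      rwa [← hj] at hi
    · have step : ∀ p q r, p ≠ q → p ≠ r → q ≠ r → F.comp v q ≠ 0 → F.comp v r ≠ 0 → p = i →
          v = F.comp v p + F.comp v q + F.comp v r → Good f u v := by
        intro p q r hpq hpr hqr hq hr hpi hs
        subst hpi
        obtain ⟨y, hy⟩ := F.exists_pair hf hg v q hq
        obtain ⟨z, hz⟩ := F.exists_pair hf hg v r hr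
        have T : Triple f u (F.comp v p) (F.comp v q) (F.comp y q) (F.comp v r) (F.comp z r) := by
          refine ⟨hi, hy, hz, ?_, ?_, corth _ _ _ _ hpq, corth _ _ _ _ hpq, ?_, ?_, corth _ _ _ _ hpr,
            corth _ _ _ _ hpr, corth _ _ _ _ hqr, corth _ _ _ _ hqr, corth _ _ _ _ hqr, corth _ _ _ _ hqr⟩ <;>
            rw [hu] <;> apply corth <;> assumption
        have h := T.good_cross hf
        rwa [← hs] at h
      by_cases h1 : p = i
      · exact step p q r hpq hpr hqr hq hr h1 hs
      by_cases h2 : q = i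
      · exact step q p r hpq.symm hqr hpr hp hr h2 (hs.trans (by abel))
      by_cases h3 : r = i
      · exact step r p q hpr.symm hqr.symm hpq hp hq h3 (hs.trans (by abel))
      exfalso
      have hb' := huv.b
      rw [hs, hu, QuadraticMap.polar_add_right, QuadraticMap.polar_add_right, corth _ _ _ _ (Ne.symm h1),
        corth _ _ _ _ (Ne.symm h2), corth _ _ _ _ (Ne.symm h3), add_zero, add_zero] at hb'
      exact zero_ne_one hb'
  intro u v huv
  rcases F.weight hk u huv.qu with ⟨i, hne, hu⟩ | ⟨p, q, r, hpq, hpr, hqr, hp, hq, hr, hs⟩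
  · exact light u v i hu hne huv
  obtain ⟨x, hx⟩ := F.exists_pair hf hg u p hp
  obtain ⟨y, hy⟩ := F.exists_pair hf hg u q hq
  obtain ⟨z, hz⟩ := F.exists_pair hf hg u r hr
  have T : Triple f (F.comp x p) (F.comp u p) (F.comp u q) (F.comp y q) (F.comp u r) (F.comp z r) :=
    ⟨hx.symm hf, hy, hz, corth _ _ _ _ hpq, corth _ _ _ _ hpq, corth _ _ _ _ hpq, corth _ _ _ _ hpq,
      corth _ _ _ _ hpr, corth _ _ _ _ hpr, corth _ _ _ _ hpr, corth _ _ _ _ hpr,
      corth _ _ _ _ hqr, corth _ _ _ _ hqr, corth _ _ _ _ hqr, corth _ _ _ _ hqr⟩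
  have hX : Good f u (F.comp x p) := by
    have h := (T.good_cross hf).symm hf
    rwa [← hs] at h
  -- the rotation moves `u` into a plane of the frame
  have hmove : (rotG hX.pln).1.1 u = F.comp x p := rot_u hX.pln
  refine Good.of_map hf huv (hX.mem hf) ?_
  have himg : Pln Q ((rotG hX.pln).1.1 u) ((rotG hX.pln).1.1 v) := huv.map _
  rw [hmove] at himg ⊢
  refine light _ _ p ?_ ?_ himg
  · have e1 : ∀ w : V, F.comp (F.comp w p) p = F.comp w p := fun w => by
      simp [Frame4.comp, QuadraticMap.polar_add_left, QuadraticMap.polar_smul_left, bself, two0, (F.pln p).b,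
        (F.pln p).b']
    exact (e1 x).symm
  · intro h0
    have e1 : ∀ w : V, F.comp (F.comp w p) p = F.comp w p := fun w => by
      simp [Frame4.comp, QuadraticMap.polar_add_left, QuadraticMap.polar_smul_left, bself, two0, (F.pln p).b,
        (F.pln p).b']
    rw [e1] at h0
    have := hx.pln.qv
    rw [h0, QuadraticMap.map_zero] at this
    exact zero_ne_one this

/-- A cocycle can be corrected to vanish on the rotations of a frame. -/
theorem Frame4.exists_normalised (F : Frame4 Q k) (hf : IsCocycle f) :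
    ∃ w : V, ∀ i, f (rotG (F.pln i)) + (rot Q (F.a i) (F.b i)).1 w + w = 0 := by
  classical
  let p : Fin k → ZMod 2 := fun i => polar Q (f (rotG (F.pln i))) (F.b i)
  let q : Fin k → ZMod 2 := fun i => polar Q (f (rotG (F.pln i))) (F.a i)
  refine ⟨∑ j, (q j • F.a j + (p j + q j) • F.b j), fun i => ?_⟩
  have hbi : polar Q (∑ j, (q j • F.a j + (p j + q j) • F.b j)) (F.b i) = q i := by
    rw [← QuadraticMap.polarBilin_apply_apply, map_sum, LinearMap.sum_apply, Finset.sum_eq_single i (fun j _ hj => by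
      simp [QuadraticMap.polar_add_left, QuadraticMap.polar_smul_left, F.ab j i hj, F.bb j i hj]) (by simp),
      QuadraticMap.polarBilin_apply_apply]
    simp [QuadraticMap.polar_add_left, QuadraticMap.polar_smul_left, bself, two0, (F.pln i).b]
  have hai : polar Q (∑ j, (q j • F.a j + (p j + q j) • F.b j)) (F.a i) = p i + q i := by
    rw [← QuadraticMap.polarBilin_apply_apply, map_sum, LinearMap.sum_apply, Finset.sum_eq_single i (fun j _ hj => by
      simp [QuadraticMap.polar_add_left, QuadraticMap.polar_smul_left, F.aa j i hj,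
        (bcomm (F.b j) (F.a i)).trans (F.ab i j hj.symm)]) (by simp),
      QuadraticMap.polarBilin_apply_apply]
    simp [QuadraticMap.polar_add_left, QuadraticMap.polar_smul_left, bself, two0, (F.pln i).b']
  rw [rot_apply (F.pln i), hbi, hai, value_rot hf (F.pln i)]
  show p i • F.a i + q i • F.b i + (_ + (p i + q i) • F.a i + q i • (F.a i + F.b i)) + _ = 0
  generalize (∑ j, (q j • F.a j + (p j + q j) • F.b j)) = S
  rcases tw (p i) with e | e <;> rcases tw (q i) with e' | e' <;> rw [e, e'] <;> match_scalars <;> decide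

theorem isCocycle_shift (hf : IsCocycle f) (w : V) :
    IsCocycle (fun g : commutator (Orth Q) => f g + g.1.1 w + w) := by
  intro g h
  show f (g * h) + (g * h).1.1 w + w = f g + g.1.1 w + w + g.1.1 (f h + h.1.1 w + w)
  rw [hf, map_add, map_add, Subgroup.coe_mul, mul_apply]
  apply smul_one_inj
  match_scalars <;> decide

/-- The first cohomology vanishes when there is a frame of at most four planes. -/
theorem Frame4.principal (F : Frame4 Q k) (hk : k ≤ 4)
    (hgen : Subgroup.closure (CfsgLib.Orth.reflSet Q) = ⊤) (hf : IsCocycle f) :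
    ∃ w : V, ∀ g, f g = g.1.1 w - w := by
  obtain ⟨w, hw⟩ := F.exists_normalised hf
  refine ⟨w, fun g => ?_⟩
  have h0 := eq_zero_of_good (isCocycle_shift hf w) hgen
    (F.all_good hk (isCocycle_shift hf w) fun i => ⟨F.pln i, hw i⟩) g
  rw [vsub]
  calc f g = f g + (g.1.1 w + w) + (g.1.1 w + w) := by rw [add_assoc (f g), vadd_self, add_zero]
    _ = g.1.1 w + w := by rw [show f g + (g.1.1 w + w) = 0 by rw [← add_assoc]; exact h0, zero_add]

end CfsgLib.OrthCohom
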