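import Cfsg.Agent.Lib.Orth.Reflection

/-! Rotations of anisotropic planes over the field with two elements, and cocycles on the group they
generate. -/

set_option autoImplicit false

namespace CfsgLib.OrthCohom

open QuadraticMap (polar)
open CfsgLib.Classical.Quad
open scoped commutatorElement

variable {V : Type*} [AddCommGroup V] [Module (ZMod 2) V] {Q : QuadraticForm (ZMod 2) V}

theorem tw : ∀ z : ZMod 2, z = 0 ∨ z = 1 := by decide

theorem vadd_self (x : V) : x + x = 0 := by rw [← two_smul (ZMod 2) x, show (2 : ZMod 2) = 0 from rfl, zero_smul]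

theorem vneg (x : V) : -x = x := neg_eq_of_add_eq_zero_right (vadd_self x)

theorem vsub (x y : V) : x - y = x + y := by rw [sub_eq_add_neg, vneg]

theorem bself (x : V) : polar Q x x = 0 := by
  rw [Classical.Quad.polar_self', show (2 : ZMod 2) = 0 from rfl, zero_mul]

theorem two0 : (2 : ZMod 2) = 0 := rfl

theorem bcomm (x y : V) : polar Q x y = polar Q y x := QuadraticMap.polar_comm Q x y

theorem Q_add (x y : V) : Q (x + y) = Q x + Q y + polar Q x y := QuadraticMap.map_add Q x y

/-- An anisotropic plane with an ordered basis. -/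
structure Pln (Q : QuadraticForm (ZMod 2) V) (u v : V) : Prop where
  qu : Q u = 1
  qv : Q v = 1
  b : polar Q u v = 1

theorem Pln.b' {u v : V} (h : Pln Q u v) : polar Q v u = 1 := by rw [bcomm, h.b]

theorem Pln.symm {u v : V} (h : Pln Q u v) : Pln Q v u := ⟨h.qv, h.qu, h.b'⟩

theorem Pln.next {u v : V} (h : Pln Q u v) : Pln Q v (u + v) := by
  refine ⟨h.qv, ?_, ?_⟩
  · rw [Q_add, h.qu, h.qv, h.b]; rfl
  · rw [QuadraticMap.polar_add_right, h.b', bself, add_zero]

theorem Pln.map {u v : V} (h : Pln Q u v) (g : Orth Q) : Pln Q (g.1 u) (g.1 v) :=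
  ⟨by rw [orth_Q, h.qu], by rw [orth_Q, h.qv], by rw [orth_polar, h.b]⟩

theorem refl_apply_one {u : V} (hu : Q u = 1) (x : V) : (refl Q u).1 x = x + polar Q x u • u := by
  rw [refl_apply, hu, div_one, CharTwo.neg_eq]

/-- The rotation `u ↦ v ↦ u + v` of a plane. -/
noncomputable def rot (Q : QuadraticForm (ZMod 2) V) (u v : V) : Orth Q := refl Q u * refl Q v

theorem rot_apply {u v : V} (h : Pln Q u v) (x : V) :
    (rot Q u v).1 x = x + polar Q x u • u + polar Q x v • (u + v) := by
  rw [rot, mul_apply, refl_apply_one h.qv, refl_apply_one h.qu, QuadraticMap.polar_add_left,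
    QuadraticMap.polar_smul_left, h.b', smul_eq_mul, mul_one]
  module

theorem rot_u {u v : V} (h : Pln Q u v) : (rot Q u v).1 u = v := by
  rw [rot_apply h, bself, h.b, zero_smul, add_zero, one_smul, ← add_assoc, vadd_self, zero_add]

theorem rot_v {u v : V} (h : Pln Q u v) : (rot Q u v).1 v = u + v := by
  rw [rot_apply h, bself, h.b', zero_smul, add_zero, one_smul, add_comm]

theorem rot_fix {u v x : V} (h : Pln Q u v) (hu : polar Q x u = 0) (hv : polar Q x v = 0) :
    (rot Q u v).1 x = x := by
  rw [rot_apply h, hu, hv, zero_smul, zero_smul, add_zero, add_zero]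

theorem rot_symm (u v : V) : rot Q v u = (rot Q u v)⁻¹ := by
  rw [rot, rot, mul_inv_rev, refl_inv, refl_inv]

theorem rot_next {u v : V} (h : Pln Q u v) : rot Q v (u + v) = rot Q u v := by
  refine orth_ext fun x => ?_
  rw [rot_apply h.next, rot_apply h, QuadraticMap.polar_add_right]
  have e : v + (u + v) = u := by rw [add_comm u v, ← add_assoc, vadd_self, zero_add]
  rw [e]
  module

theorem rot_cube {u v : V} (h : Pln Q u v) : rot Q u v * rot Q u v * rot Q u v = 1 := by
  refine orth_ext fun x => ?_
  rw [mul_apply, mul_apply, one_apply, rot_apply h x]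
  simp only [map_add, map_smul, rot_u h, rot_v h, rot_apply h x]
  rcases tw (polar Q x u) with e | e <;> rcases tw (polar Q x v) with e' | e' <;> rw [e, e'] <;>
    match_scalars <;> decide

theorem conj_rot (g : Orth Q) (u v : V) : g * rot Q u v * g⁻¹ = rot Q (g.1 u) (g.1 v) := by
  rw [rot, rot, ← refl_conj, ← refl_conj]; group

theorem rot_mem {u v : V} (h : Pln Q u v) : rot Q u v ∈ commutator (Orth Q) := by
  have hg : (refl Q (u + v)).1 u = v := by
    rw [refl_apply_one h.next.qv, QuadraticMap.polar_add_right, bself, h.b, zero_add, one_smul,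
      ← add_assoc, vadd_self, zero_add]
  have e : rot Q u v = ⁅refl Q u, refl Q (u + v)⁆ := by
    have hc := refl_conj (refl Q (u + v)) u
    rw [hg, refl_inv] at hc
    rw [rot, commutatorElement_def, refl_inv, refl_inv, ← hc]
    group
  rw [e, _root_.commutator_def]
  exact Subgroup.commutator_mem_commutator (Subgroup.mem_top _) (Subgroup.mem_top _)

/-- The rotation as an element of the commutator subgroup. -/
noncomputable def rotG {u v : V} (h : Pln Q u v) : commutator (Orth Q) := ⟨rot Q u v, rot_mem h⟩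

theorem rotG_coe {u v : V} (h : Pln Q u v) : (rotG h).1 = rot Q u v := rfl

theorem commutator_le_closure_rot (hgen : Subgroup.closure (CfsgLib.Orth.reflSet Q) = ⊤) :
    commutator (Orth Q) ≤ Subgroup.closure {g | ∃ u v, Pln Q u v ∧ g = rot Q u v} := by
  set E := Subgroup.closure {g : Orth Q | ∃ u v, Pln Q u v ∧ g = rot Q u v}
  haveI : E.Normal := by
    refine ⟨fun n hn g => ?_⟩
    induction hn using Subgroup.closure_induction with
    | mem x hx =>
      obtain ⟨u, v, h, rfl⟩ := hx
      rw [conj_rot]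
      exact Subgroup.subset_closure ⟨_, _, h.map g, rfl⟩
    | one => simp
    | mul x y _ _ hx hy => simpa using mul_mem hx hy
    | inv x _ hx => simpa [mul_assoc] using inv_mem hx
  let π := QuotientGroup.mk' E
  have hgen' : Subgroup.closure (π '' CfsgLib.Orth.reflSet Q) = ⊤ := by
    rw [← MonoidHom.map_closure, hgen, Subgroup.map_top_of_surjective _ (QuotientGroup.mk'_surjective E)]
  have hcomm : ∀ a ∈ π '' CfsgLib.Orth.reflSet Q, ∀ b ∈ π '' CfsgLib.Orth.reflSet Q, a * b = b * a := by
    rintro _ ⟨_, ⟨u, hu, rfl⟩, rfl⟩ _ ⟨_, ⟨v, hv, rfl⟩, rfl⟩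
    have hu1 : Q u = 1 := (tw _).resolve_left hu
    have hv1 : Q v = 1 := (tw _).resolve_left hv
    rcases tw (polar Q u v) with hb | hb
    · have hfix : (refl Q u).1 v = v := refl_fix (by rw [bcomm, hb])
      have := refl_conj (refl Q u) v
      rw [hfix, mul_inv_eq_iff_eq_mul] at this
      rw [← map_mul, ← map_mul, this]
    · have h : π (refl Q u) * π (refl Q v) = 1 := by
        rw [← map_mul]
        exact (QuotientGroup.eq_one_iff _).2 (Subgroup.subset_closure ⟨u, v, ⟨hu1, hv1, hb⟩, rfl⟩)
      rw [h, mul_eq_one_iff_eq_inv.1 h]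
      exact (mul_inv_cancel _).symm
  have hab : ∀ a b : Orth Q ⧸ E, a * b = b * a := by
    intro a b
    have hb : b ∈ Subgroup.centralizer (π '' CfsgLib.Orth.reflSet Q) := by
      have hb0 : b ∈ Subgroup.closure (π '' CfsgLib.Orth.reflSet Q) := hgen' ▸ Subgroup.mem_top b
      refine (Subgroup.closure_le _).2 (fun x hx => ?_) hb0
      exact Subgroup.mem_centralizer_iff.2 fun y hy => hcomm y hy x hx
    have ha0 : a ∈ Subgroup.closure (π '' CfsgLib.Orth.reflSet Q) := hgen' ▸ Subgroup.mem_top a
    have : a ∈ Subgroup.centralizer ({b} : Set (Orth Q ⧸ E)) := by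
      refine (Subgroup.closure_le _).2 (fun x hx => ?_) ha0
      exact Subgroup.mem_centralizer_singleton_iff.2 (Subgroup.mem_centralizer_iff.1 hb x hx)
    exact Subgroup.mem_centralizer_singleton_iff.1 this
  rw [_root_.commutator_def]
  refine Subgroup.commutator_le.2 fun a _ b _ => ?_
  rw [← QuotientGroup.eq_one_iff, commutatorElement_def]
  show π (a * b * a⁻¹ * b⁻¹) = 1
  rw [map_mul, map_mul, map_mul, map_inv, map_inv, hab (π a) (π b)]
  group

/-! ### Cocycles -/

variable {f : commutator (Orth Q) → V}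

/-- The cocycle identity. -/
def IsCocycle (f : commutator (Orth Q) → V) : Prop := ∀ g h, f (g * h) = f g + g.1.1 (f h)

theorem IsCocycle.one (hf : IsCocycle f) : f 1 = 0 := by
  have := hf 1 1
  rwa [one_mul, OneMemClass.coe_one, one_apply, left_eq_add] at this

/-- The subgroup on which a cocycle vanishes. -/
def zeroSet (hf : IsCocycle f) : Subgroup (commutator (Orth Q)) where
  carrier := {g | f g = 0}
  one_mem' := hf.one
  mul_mem' {a b} (ha : f a = 0) (hb : f b = 0) := show f (a * b) = 0 by rw [hf, ha, hb, map_zero, add_zero]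
  inv_mem' {a} (ha : f a = 0) := show f a⁻¹ = 0 by
    have := hf a a⁻¹
    rw [mul_inv_cancel, hf.one, ha, zero_add] at this
    exact (a.1.1.map_eq_zero_iff).1 this.symm

/-- The plane on which the cocycle vanishes. -/
def Good (f : commutator (Orth Q) → V) (u v : V) : Prop := ∃ h : Pln Q u v, f (rotG h) = 0

theorem Good.pln {u v : V} (h : Good f u v) : Pln Q u v := h.1

theorem Good.mem (hf : IsCocycle f) {u v : V} (h : Good f u v) : rotG h.pln ∈ zeroSet hf := h.2

theorem good_of_mem (hf : IsCocycle f) {u v : V} (h : Pln Q u v) {g : commutator (Orth Q)}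
    (hg : g ∈ zeroSet hf) (e : g.1 = rot Q u v) : Good f u v :=
  ⟨h, by rw [show rotG h = g from Subtype.ext e.symm]; exact hg⟩

theorem Good.symm (hf : IsCocycle f) {u v : V} (h : Good f u v) : Good f v u :=
  good_of_mem hf h.pln.symm (inv_mem (h.mem hf)) (by rw [InvMemClass.coe_inv, rotG_coe, rot_symm u v])

theorem Good.next (hf : IsCocycle f) {u v : V} (h : Good f u v) : Good f v (u + v) :=
  good_of_mem hf h.pln.next (h.mem hf) (by rw [rotG_coe, rot_next h.pln])

theorem Good.of_map (hf : IsCocycle f) {u v : V} (hp : Pln Q u v) {g : commutator (Orth Q)}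
    (hg : g ∈ zeroSet hf) (h : Good f (g.1.1 u) (g.1.1 v)) : Good f u v := by
  refine good_of_mem hf hp (mul_mem (mul_mem (inv_mem hg) (h.mem hf)) hg) ?_
  rw [Subgroup.coe_mul, Subgroup.coe_mul, InvMemClass.coe_inv, rotG_coe, ← conj_rot]
  group

theorem Good.map (hf : IsCocycle f) {u v : V} (h : Good f u v) {g : commutator (Orth Q)}
    (hg : g ∈ zeroSet hf) : Good f (g.1.1 u) (g.1.1 v) := by
  refine good_of_mem hf (h.pln.map g.1) (mul_mem (mul_mem hg (h.mem hf)) (inv_mem hg)) ?_
  rw [Subgroup.coe_mul, Subgroup.coe_mul, InvMemClass.coe_inv, rotG_coe, conj_rot]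

theorem value_rot (hf : IsCocycle f) {u v : V} (h : Pln Q u v) :
    f (rotG h) = polar Q (f (rotG h)) v • u + polar Q (f (rotG h)) u • v := by
  have h3 : rotG h * rotG h * rotG h = 1 := Subtype.ext (rot_cube h)
  have h0 := congrArg f h3
  rw [hf, hf, hf.one, Subgroup.coe_mul, mul_apply, rotG_coe] at h0
  generalize f (rotG h) = x at h0 ⊢
  simp only [rot_apply h x, map_add, map_smul, rot_u h, rot_v h] at h0
  rcases tw (polar Q x u) with e | e <;> rcases tw (polar Q x v) with e' | e' <;> rw [e, e'] at h0 ⊢ <;>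
    linear_combination (norm := (match_scalars <;> decide)) h0

/-- An element of the vanishing subgroup turning a plane kills the value at the plane. -/
theorem good_of_turn (hf : IsCocycle f) {u v : V} (h : Pln Q u v) {g : commutator (Orth Q)}
    (hg : g ∈ zeroSet hf) (hu : g.1.1 u = v) (hv : g.1.1 v = u + v) : Good f u v := by
  refine ⟨h, ?_⟩
  have hc : g * rotG h = rotG h * g := by
    refine Subtype.ext ?_
    rw [Subgroup.coe_mul, Subgroup.coe_mul, rotG_coe, ← mul_inv_eq_iff_eq_mul, conj_rot, hu, hv, rot_next h]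
  have h0 := congrArg f hc
  rw [hf, hf, show f g = 0 from hg, map_zero, add_zero, zero_add, value_rot hf h, map_add, map_smul,
    map_smul, hu, hv] at h0
  rw [value_rot hf h]
  generalize polar Q (f (rotG h)) v = a at h0 ⊢
  have e1 := congrArg (fun t => polar Q t u) h0
  have e2 := congrArg (fun t => polar Q t v) h0
  simp only [QuadraticMap.polar_add_left, QuadraticMap.polar_smul_left, QuadraticMap.polar_add_right, bself,
    h.b, h.b', smul_eq_mul, mul_zero, mul_one, add_zero, zero_add] at e1 e2
  generalize polar Q (f (rotG h)) u = b at e1 e2 ⊢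
  have key : ∀ a b : ZMod 2, b = a + b → a = b → a = 0 ∧ b = 0 := by decide
  obtain ⟨ha, hb⟩ : a = 0 ∧ b = 0 := by
    rcases tw a with rfl | rfl <;> rcases tw b with rfl | rfl <;> simp_all
  rw [ha, hb, zero_smul, zero_smul, add_zero]

theorem eq_zero_of_good (hf : IsCocycle f) (hgen : Subgroup.closure (CfsgLib.Orth.reflSet Q) = ⊤)
    (hall : ∀ u v, Pln Q u v → Good f u v) (g : commutator (Orth Q)) : f g = 0 := by
  have h : commutator (Orth Q) ≤ (zeroSet hf).map (commutator (Orth Q)).subtype := by
    refine (commutator_le_closure_rot hgen).trans ((Subgroup.closure_le _).2 ?_)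
    rintro _ ⟨u, v, h, rfl⟩
    exact ⟨rotG h, (hall u v h).mem hf, rfl⟩
  obtain ⟨g', hg', e⟩ := h g.2
  rw [← Subtype.ext (p := fun x => x ∈ commutator (Orth Q)) e]
  exact hg'

end CfsgLib.OrthCohom
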