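import Cfsg.Agent.Lib.OrthCohom.Frames
import Cfsg.Agent.Lib.Classical.Quad.Std

/-! First cohomology of three small orthogonal groups over the field with two elements. -/

set_option autoImplicit false

namespace CfsgLib.OrthCohom

open QuadraticMap (polar)
open CfsgLib.Classical.Quad Matrix

variable {ι : Type} [Fintype ι] [DecidableEq ι] {qf : (ι → ZMod 2) → ZMod 2}
  {Q : QuadraticForm (ZMod 2) (ι → ZMod 2)}

/-- The polarization of a function. -/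
def pf (qf : (ι → ZMod 2) → ZMod 2) (x y : ι → ZMod 2) : ZMod 2 := qf (x + y) - qf x - qf y

theorem polar_eq_pf (hQ : ∀ v, Q v = qf v) (x y : ι → ZMod 2) : polar Q x y = pf qf x y := by
  rw [pf, ← hQ, ← hQ, ← hQ]; rfl

theorem pln_of (hQ : ∀ v, Q v = qf v) {u v : ι → ZMod 2} (h : qf u = 1 ∧ qf v = 1 ∧ pf qf u v = 1) :
    Pln Q u v :=
  ⟨(hQ u).trans h.1, (hQ v).trans h.2.1, (polar_eq_pf hQ u v).trans h.2.2⟩

/-- Vanishing for the function form from vanishing for the quadratic form. -/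
theorem principal_transfer (hQ : ∀ v, Q v = qf v)
    (h : ∀ f : commutator (Orth Q) → (ι → ZMod 2), IsCocycle f → ∃ w, ∀ g, f g = g.1.1 w - w)
    (f : ↥(Cfsg.Omega (ZMod 2) qf) → (ι → ZMod 2))
    (hf : ∀ g k, f (g * k) = f g +
      Matrix.mulVec (((g : ↥(Cfsg.isometryGroup (ZMod 2) qf)) : GL ι (ZMod 2)) : Matrix ι ι (ZMod 2)) (f k)) :
    ∃ v : ι → ZMod 2, ∀ g : ↥(Cfsg.Omega (ZMod 2) qf), f g =
      Matrix.mulVec (((g : ↥(Cfsg.isometryGroup (ZMod 2) qf)) : GL ι (ZMod 2)) : Matrix ι ι (ZMod 2)) v - v := by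
  let e : ↥(Cfsg.Omega (ZMod 2) qf) ≃* commutator (Orth Q) :=
    commutatorEquiv (isometryGroupEquiv Q hQ)
  have he : ∀ g x, (e g).1.1 x =
      Matrix.mulVec (((g : ↥(Cfsg.isometryGroup (ZMod 2) qf)) : GL ι (ZMod 2)) : Matrix ι ι (ZMod 2)) x :=
    fun g x => isometryGroupEquiv_apply Q hQ g.1 x
  obtain ⟨w, hw⟩ := h (fun g => f (e.symm g)) fun g k => by
    show f (e.symm (g * k)) = _
    rw [map_mul, hf, ← he, e.apply_symm_apply]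
  refine ⟨w, fun g => ?_⟩
  have := hw (e g)
  rwa [e.symm_apply_apply, he] at this

theorem ndPolar_of_span {k : ℕ} (F : Frame4 Q k) : NDPolar Q := fun x hx =>
  F.span x fun i => ⟨hx _, hx _⟩

theorem principal_of_frame {k : ℕ} (F : Frame4 Q k) (hk : k ≤ 4) (hcard : Fintype.card ι ≠ 4)
    {f : commutator (Orth Q) → (ι → ZMod 2)} (hf : IsCocycle f) : ∃ w, ∀ g, f g = g.1.1 w - w :=
  F.principal hk (CfsgLib.Orth.closure_refl (ndPolar_of_span F) (Or.inr (by simpa using hcard))) hf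

/-- A frame from decidable data. -/
def frameOf (hQ : ∀ v, Q v = qf v) {k : ℕ} (a b : Fin k → ι → ZMod 2)
    (hp : ∀ i, qf (a i) = 1 ∧ qf (b i) = 1 ∧ pf qf (a i) (b i) = 1)
    (ho : ∀ i j, i ≠ j → pf qf (a i) (a j) = 0 ∧ pf qf (a i) (b j) = 0 ∧ pf qf (b i) (b j) = 0)
    (hs : ∀ x, (∀ i, pf qf x (a i) = 0 ∧ pf qf x (b i) = 0) → x = 0) : Frame4 Q k where
  a := a
  b := b
  pln i := pln_of hQ (hp i)
  aa i j h := (polar_eq_pf hQ _ _).trans (ho i j h).1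
  ab i j h := (polar_eq_pf hQ _ _).trans (ho i j h).2.1
  bb i j h := (polar_eq_pf hQ _ _).trans (ho i j h).2.2
  span x hx := hs x fun i => ⟨(polar_eq_pf hQ _ _).symm.trans (hx i).1, (polar_eq_pf hQ _ _).symm.trans (hx i).2⟩

/-! ### The six-dimensional minus form -/

/-- A vector of six coordinates. -/
def mk6 (x₁ x₂ y₁ y₂ a b : ZMod 2) : (Fin 2 ⊕ Fin 2) ⊕ Fin 2 → ZMod 2 :=
  Sum.elim (Sum.elim ![x₁, x₂] ![y₁, y₂]) ![a, b]

local notation "M6" => Cfsg.quadFormMinus 2 (ZMod 2) 1 1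

theorem principal_six (f : ↥(Cfsg.Omega (ZMod 2) M6) → ((Fin 2 ⊕ Fin 2) ⊕ Fin 2 → ZMod 2))
    (hf : ∀ g k, f (g * k) = f g + Matrix.mulVec (((g : ↥(Cfsg.isometryGroup (ZMod 2) M6)) :
      GL ((Fin 2 ⊕ Fin 2) ⊕ Fin 2) (ZMod 2)) : Matrix ((Fin 2 ⊕ Fin 2) ⊕ Fin 2) ((Fin 2 ⊕ Fin 2) ⊕ Fin 2) (ZMod 2)) (f k)) :
    ∃ v, ∀ g : ↥(Cfsg.Omega (ZMod 2) M6), f g = Matrix.mulVec (((g : ↥(Cfsg.isometryGroup (ZMod 2) M6)) :
      GL ((Fin 2 ⊕ Fin 2) ⊕ Fin 2) (ZMod 2)) : Matrix ((Fin 2 ⊕ Fin 2) ⊕ Fin 2) ((Fin 2 ⊕ Fin 2) ⊕ Fin 2) (ZMod 2)) v - v := by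
  obtain ⟨Q, hQ⟩ : ∃ Q : QuadraticForm (ZMod 2) ((Fin 2 ⊕ Fin 2) ⊕ Fin 2 → ZMod 2), ∀ v, Q v = M6 v :=
    ⟨(hypForm 2 (binForm (1 : ZMod 2) 1)).comp (minusEquiv 2 (ZMod 2)).toLinearMap, minusEquiv_spec 2 1 1⟩
  refine principal_transfer hQ (fun f hf => principal_of_frame
    (frameOf hQ ![mk6 1 0 1 0 0 0, mk6 0 1 0 1 0 0, mk6 0 0 0 0 1 0]
      ![mk6 1 1 0 1 0 0, mk6 1 1 1 0 0 0, mk6 0 0 0 0 0 1] ?_ ?_ ?_) (by norm_num) (by decide) hf) f hf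
  · decide +kernel
  · decide +kernel
  · decide +kernel

/-! ### The eight-dimensional plus form -/

/-- A vector of eight coordinates. -/
def mk8 (x₁ x₂ x₃ x₄ y₁ y₂ y₃ y₄ : ZMod 2) : Fin 4 ⊕ Fin 4 → ZMod 2 :=
  Sum.elim ![x₁, x₂, x₃, x₄] ![y₁, y₂, y₃, y₄]

local notation "P8" => Cfsg.quadFormPlus 4 (ZMod 2)

theorem principal_eight (f : ↥(Cfsg.Omega (ZMod 2) P8) → (Fin 4 ⊕ Fin 4 → ZMod 2))
    (hf : ∀ g k, f (g * k) = f g + Matrix.mulVec (((g : ↥(Cfsg.isometryGroup (ZMod 2) P8)) :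
      GL (Fin 4 ⊕ Fin 4) (ZMod 2)) : Matrix (Fin 4 ⊕ Fin 4) (Fin 4 ⊕ Fin 4) (ZMod 2)) (f k)) :
    ∃ v, ∀ g : ↥(Cfsg.Omega (ZMod 2) P8), f g = Matrix.mulVec (((g : ↥(Cfsg.isometryGroup (ZMod 2) P8)) :
      GL (Fin 4 ⊕ Fin 4) (ZMod 2)) : Matrix (Fin 4 ⊕ Fin 4) (Fin 4 ⊕ Fin 4) (ZMod 2)) v - v := by
  obtain ⟨Q, hQ⟩ : ∃ Q : QuadraticForm (ZMod 2) (Fin 4 ⊕ Fin 4 → ZMod 2), ∀ v, Q v = P8 v :=
    ⟨(hypForm 4 (zeroKernel (ZMod 2))).comp (plusEquiv 4 (ZMod 2)).toLinearMap, plusEquiv_spec 4⟩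
  refine principal_transfer hQ (fun f hf => principal_of_frame
    (frameOf hQ
      ![mk8 1 0 0 0 1 0 0 0, mk8 0 1 0 0 0 1 0 0, mk8 0 0 1 0 0 0 1 0, mk8 0 0 0 1 0 0 0 1]
      ![mk8 1 1 0 0 0 1 0 0, mk8 1 1 0 0 1 0 0 0, mk8 0 0 1 1 0 0 0 1, mk8 0 0 1 1 0 0 1 0] ?_ ?_ ?_)
    le_rfl (by decide) hf) f hf
  · decide +kernel
  · decide +kernel
  · decide +kernel

/-! ### The four-dimensional minus form -/

/-- A vector of four coordinates. -/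
def mk4 (x y a b : ZMod 2) : (Fin 1 ⊕ Fin 1) ⊕ Fin 2 → ZMod 2 := Sum.elim (Sum.elim ![x] ![y]) ![a, b]

local notation "M4" => Cfsg.quadFormMinus 1 (ZMod 2) 1 1

/-- The rotation formula. -/
def rfun (u v x : (Fin 1 ⊕ Fin 1) ⊕ Fin 2 → ZMod 2) : (Fin 1 ⊕ Fin 1) ⊕ Fin 2 → ZMod 2 :=
  x + pf M4 x u • u + pf M4 x v • (u + v)

/-- Representatives of the ten anisotropic planes. -/
def planes : Fin 10 → ((Fin 1 ⊕ Fin 1) ⊕ Fin 2 → ZMod 2) × ((Fin 1 ⊕ Fin 1) ⊕ Fin 2 → ZMod 2) :=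
  ![(mk4 0 0 0 1, mk4 0 0 1 0), (mk4 0 1 0 1, mk4 1 0 0 1), (mk4 0 1 1 0, mk4 1 0 1 0),
    (mk4 0 0 0 1, mk4 1 0 1 1), (mk4 0 0 1 1, mk4 0 1 1 0), (mk4 0 1 1 1, mk4 1 0 1 1),
    (mk4 0 0 1 0, mk4 1 0 0 1), (mk4 0 0 0 1, mk4 0 1 1 1), (mk4 1 0 1 0, mk4 0 0 1 1),
    (mk4 0 0 1 0, mk4 0 1 1 1)]

theorem planes_derive :
    (∀ i : Fin 10, M4 (planes i).1 = 1 ∧ M4 (planes i).2 = 1 ∧ pf M4 (planes i).1 (planes i).2 = 1) ∧
    ∀ t ∈ [((0 : Fin 10), (1 : Fin 10), (2 : Fin 10)), (1, 0, 3), (1, 2, 4), (0, 2, 5), (0, 3, 6), (0, 4, 7),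
      (1, 4, 8), (1, 5, 9)],
      rfun (planes t.1).1 (planes t.1).2 (planes t.2.1).1 = (planes t.2.2).1 ∧
      rfun (planes t.1).1 (planes t.1).2 (planes t.2.1).2 = (planes t.2.2).2 := by
  decide +kernel

set_option synthInstance.maxSize 4000 in
theorem planes_complete : ∀ u v : (Fin 1 ⊕ Fin 1) ⊕ Fin 2 → ZMod 2, M4 u = 1 → M4 v = 1 → pf M4 u v = 1 →
    ∃ i : Fin 10, ∃ s t s' t' : ZMod 2, u = s • (planes i).1 + t • (planes i).2 ∧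
      v = s' • (planes i).1 + t' • (planes i).2 := by
  decide +kernel

theorem planes_normalise : ∀ p q p' q' : ZMod 2, ∃ w : (Fin 1 ⊕ Fin 1) ⊕ Fin 2 → ZMod 2,
    p • (planes 0).1 + q • (planes 0).2 + rfun (planes 0).1 (planes 0).2 w + w = 0 ∧
    p' • (planes 1).1 + q' • (planes 1).2 + rfun (planes 1).1 (planes 1).2 w + w = 0 := by
  decide +kernel

set_option synthInstance.maxSize 4000 in
theorem four_facts : (∀ x : (Fin 1 ⊕ Fin 1) ⊕ Fin 2 → ZMod 2, (∀ y, pf M4 x y = 0) → x = 0) ∧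
    ∀ x y : (Fin 1 ⊕ Fin 1) ⊕ Fin 2 → ZMod 2, x ≠ 0 → y ≠ 0 → x ≠ y → ¬ (M4 x = 0 ∧ M4 y = 0 ∧ M4 (x + y) = 0) := by
  decide +kernel

theorem principal_four (f : ↥(Cfsg.Omega (ZMod 2) M4) → ((Fin 1 ⊕ Fin 1) ⊕ Fin 2 → ZMod 2))
    (hf : ∀ g k, f (g * k) = f g + Matrix.mulVec (((g : ↥(Cfsg.isometryGroup (ZMod 2) M4)) :
      GL ((Fin 1 ⊕ Fin 1) ⊕ Fin 2) (ZMod 2)) : Matrix ((Fin 1 ⊕ Fin 1) ⊕ Fin 2) ((Fin 1 ⊕ Fin 1) ⊕ Fin 2) (ZMod 2)) (f k)) :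
    ∃ v, ∀ g : ↥(Cfsg.Omega (ZMod 2) M4), f g = Matrix.mulVec (((g : ↥(Cfsg.isometryGroup (ZMod 2) M4)) :
      GL ((Fin 1 ⊕ Fin 1) ⊕ Fin 2) (ZMod 2)) : Matrix ((Fin 1 ⊕ Fin 1) ⊕ Fin 2) ((Fin 1 ⊕ Fin 1) ⊕ Fin 2) (ZMod 2)) v - v := by
  obtain ⟨Q, hQ⟩ : ∃ Q : QuadraticForm (ZMod 2) ((Fin 1 ⊕ Fin 1) ⊕ Fin 2 → ZMod 2), ∀ v, Q v = M4 v :=
    ⟨(hypForm 1 (binForm (1 : ZMod 2) 1)).comp (minusEquiv 1 (ZMod 2)).toLinearMap, minusEquiv_spec 1 1 1⟩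
  have hnd : NDPolar Q := fun x hx => four_facts.1 x fun y => (polar_eq_pf hQ x y).symm.trans (hx y)
  have hgen : Subgroup.closure (CfsgLib.Orth.reflSet Q) = ⊤ := by
    refine CfsgLib.Orth.closure_refl_of hnd (Or.inr (Or.inr fun W hW => ?_))
    by_contra! hall
    let c := Module.finBasisOfFinrankEq (ZMod 2) W hW
    have hne : ∀ i, (c i : (Fin 1 ⊕ Fin 1) ⊕ Fin 2 → ZMod 2) ≠ 0 := fun i h => c.ne_zero i (Subtype.ext h)
    have h01 : (c 0 : (Fin 1 ⊕ Fin 1) ⊕ Fin 2 → ZMod 2) ≠ c 1 := fun h =>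
      absurd (c.injective (Subtype.ext h)) (by decide)
    refine four_facts.2 _ _ (hne 0) (hne 1) h01 ⟨?_, ?_, ?_⟩ <;> rw [← hQ] <;> apply hall
    · exact (c 0).2
    · exact (c 1).2
    · exact W.add_mem (c 0).2 (c 1).2
  refine principal_transfer hQ (fun f hf => ?_) f hf
  have hp : ∀ i, Pln Q (planes i).1 (planes i).2 := fun i => pln_of hQ (planes_derive.1 i)
  have hr : ∀ i x, (rot Q (planes i).1 (planes i).2).1 x = rfun (planes i).1 (planes i).2 x := fun i x => by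
    rw [rot_apply (hp i), rfun, polar_eq_pf hQ, polar_eq_pf hQ]
  obtain ⟨w, hw₀, hw₁⟩ := planes_normalise (polar Q (f (rotG (hp 0))) (planes 0).2)
    (polar Q (f (rotG (hp 0))) (planes 0).1) (polar Q (f (rotG (hp 1))) (planes 1).2)
    (polar Q (f (rotG (hp 1))) (planes 1).1)
  refine ⟨w, fun g => ?_⟩
  have hf' : IsCocycle (fun g : commutator (Orth Q) => f g + g.1.1 w + w) := isCocycle_shift hf w
  obtain ⟨f', hf'def⟩ : ∃ f', f' = fun g : commutator (Orth Q) => f g + g.1.1 w + w := ⟨_, rfl⟩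
  rw [← hf'def] at hf'
  have hbase0 : Good f' (planes 0).1 (planes 0).2 := by
    refine ⟨hp 0, ?_⟩
    rw [hf'def]
    show f (rotG (hp 0)) + (rot Q (planes 0).1 (planes 0).2).1 w + w = 0
    rw [hr, value_rot hf (hp 0)]
    exact hw₀
  have hbase1 : Good f' (planes 1).1 (planes 1).2 := by
    refine ⟨hp 1, ?_⟩
    rw [hf'def]
    show f (rotG (hp 1)) + (rot Q (planes 1).1 (planes 1).2).1 w + w = 0
    rw [hr, value_rot hf (hp 1)]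
    exact hw₁
  have hstep : ∀ t ∈ [((0 : Fin 10), (1 : Fin 10), (2 : Fin 10)), (1, 0, 3), (1, 2, 4), (0, 2, 5), (0, 3, 6),
      (0, 4, 7), (1, 4, 8), (1, 5, 9)], Good f' (planes t.1).1 (planes t.1).2 →
      Good f' (planes t.2.1).1 (planes t.2.1).2 → Good f' (planes t.2.2).1 (planes t.2.2).2 := by
    intro t ht h1 h2
    have h := h2.map hf' (h1.mem hf')
    rw [rotG_coe, hr, hr, (planes_derive.2 t ht).1, (planes_derive.2 t ht).2] at h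
    exact h
  have g0 := hbase0
  have g1 := hbase1
  have g2 := hstep (0, 1, 2) (by decide) g0 g1
  have g3 := hstep (1, 0, 3) (by decide) g1 g0
  have g4 := hstep (1, 2, 4) (by decide) g1 g2
  have g5 := hstep (0, 2, 5) (by decide) g0 g2
  have g6 := hstep (0, 3, 6) (by decide) g0 g3
  have g7 := hstep (0, 4, 7) (by decide) g0 g4
  have g8 := hstep (1, 4, 8) (by decide) g1 g4
  have g9 := hstep (1, 5, 9) (by decide) g1 g5
  have hgood : ∀ i, Good f' (planes i).1 (planes i).2 := by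
    intro i
    fin_cases i <;> assumption
  have hall : ∀ u v, Pln Q u v → Good f' u v := by
    intro u v h
    obtain ⟨i, s, t, s', t', hu, hv⟩ := planes_complete u v ((hQ u).symm.trans h.qu) ((hQ v).symm.trans h.qv)
      ((polar_eq_pf hQ u v).symm.trans h.b)
    exact good_span hf' (hgood i) hu hv h.b
  have h0 := eq_zero_of_good hf' hgen hall g
  rw [hf'def] at h0
  rw [vsub]
  calc f g = f g + (g.1.1 w + w) + (g.1.1 w + w) := by rw [add_assoc (f g), vadd_self, add_zero]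
    _ = g.1.1 w + w := by rw [show f g + (g.1.1 w + w) = 0 by rw [← add_assoc]; exact h0, zero_add]

end CfsgLib.OrthCohom
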